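import Mathlib
import Cfsg.Agent.H950.Count

/-!
# Endomorphisms of irreducible modules of `p`-groups over finite fields (S4822, helper107)

`P` is a finite `p`-group, `p` odd, `ρ : P →* Module.End F W` irreducible, `F` finite.

* `finrank_eq_pow`: if `p ∣ |K| - 1` and `P` acts irreducibly on the `K`-space `W`, then `dim_K W` is a power of `p`
  (the number of subspaces of dimension `p ^ a = (dim W)_p` is prime to `p`);
* `end_comm`: the endomorphisms commuting with `P` commute;
* `exists_end`: for every `δ ≠ 0` in `F` there is an endomorphism commuting with `P` of determinant `δ ^ (p ^ a)`.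
-/

set_option autoImplicit false

namespace Cfsg.Agent.H107.AutU

open Module

universe u v w

/-! ### Valuations -/

/-- lifting the exponent, for equal valuations of the exponents -/
theorem val_eq {p q m n : ℕ} [hp : Fact p.Prime] (hp2 : p ≠ 2) (hq : 1 < q) (hpq : p ∣ q - 1) (hm : m ≠ 0)
    (hn : n ≠ 0) (h : padicValNat p m = padicValNat p n) :
    padicValNat p (q ^ m - 1) = padicValNat p (q ^ n - 1) := by
  have hodd := hp.out.odd_of_ne_two hp2
  have h1 : ¬ p ∣ q := by
    intro h2
    have h3 : p ∣ q - (q - 1) := Nat.dvd_sub h2 hpq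
    rw [Nat.sub_sub_self hq.le] at h3
    exact hp.out.one_lt.ne' (Nat.dvd_one.1 h3)
  have e1 := padicValNat.pow_sub_pow (p := p) hodd (x := q) (y := 1) hq hpq h1 hm
  have e2 := padicValNat.pow_sub_pow (p := p) hodd (x := q) (y := 1) hq hpq h1 hn
  rw [one_pow] at e1 e2
  rw [e1, e2, h]

theorem val_prod {p : ℕ} [hp : Fact p.Prime] {ι : Type*} (s : Finset ι) (f : ι → ℕ) (hf : ∀ i ∈ s, f i ≠ 0) :
    padicValNat p (∏ i ∈ s, f i) = ∑ i ∈ s, padicValNat p (f i) := by
  classical
  induction s using Finset.induction_on with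
  | empty => simp
  | insert i s hi ih =>
    rw [Finset.prod_insert hi, Finset.sum_insert hi, padicValNat.mul (hf _ (Finset.mem_insert_self _ _))
      (Finset.prod_ne_zero_iff.2 fun j hj => hf j (Finset.mem_insert_of_mem hj)),
      ih fun j hj => hf j (Finset.mem_insert_of_mem hj)]

/-- the number of subspaces of dimension `p ^ a`, `p ^ a` the `p`-part of the dimension -/
theorem not_dvd_card {p : ℕ} [hp : Fact p.Prime] (hp2 : p ≠ 2) {K : Type*} [Field K] [Fintype K] {W : Type*}
    [AddCommGroup W] [Module K W] [FiniteDimensional K W] (hpK : p ∣ Fintype.card K - 1) {a m' : ℕ}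
    (hm : finrank K W = p ^ a * m') (hm' : ¬ p ∣ m') :
    ¬ p ∣ Nat.card {U : Submodule K W // finrank K U = p ^ a} := by
  have hp' := hp.out
  have hm0 : m' ≠ 0 := by rintro rfl; exact hm' (dvd_zero _)
  set q := Fintype.card K with hq
  have hq1 : 1 < q := Fintype.one_lt_card
  have hle : p ^ a ≤ finrank K W := by
    rw [hm]; exact Nat.le_mul_of_pos_right _ (Nat.pos_of_ne_zero hm0)
  have h1 := H950.card_subspaces_eq (F := K) (V := W) (n := finrank K W) (k := p ^ a) rfl hle hq.symm
  have hpos : ∀ k : ℕ, k ≠ 0 → q ^ k - 1 ≠ 0 := fun k hk =>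
    (Nat.sub_pos_of_lt (Nat.one_lt_pow hk hq1)).ne'
  have hne1 : ∀ j : Fin (p ^ a), q ^ (p ^ a - j.val) - 1 ≠ 0 := fun j => hpos _ (by have := j.2; omega)
  have hne2 : ∀ j : Fin (p ^ a), q ^ (finrank K W - j.val) - 1 ≠ 0 := fun j => hpos _ (by have := j.2; omega)
  have hval : ∀ j : Fin (p ^ a), padicValNat p (q ^ (finrank K W - j.val) - 1) =
      padicValNat p (q ^ (p ^ a - j.val) - 1) := by
    intro j
    refine val_eq hp2 hq1 hpK (by have := j.2; omega) (by have := j.2; omega) ?_
    rcases Nat.eq_zero_or_pos j.val with h0 | h0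
    · rw [h0, Nat.sub_zero, Nat.sub_zero, hm, padicValNat.mul (pow_ne_zero _ hp'.ne_zero) hm0,
        padicValNat.eq_zero_of_not_dvd hm', add_zero]
    · -- both are the valuation of `j`
      have key : ∀ c : ℕ, p ^ a ∣ c → j.val < c → padicValNat p (c - j.val) = padicValNat p j.val := by
        intro c hc hjc
        have hlt : padicValNat p j.val < a := by
          by_contra hcon
          push Not at hcon
          have h2 : p ^ a ∣ j.val := (padicValNat_dvd_iff_le h0.ne').2 hcon
          have := Nat.le_of_dvd h0 h2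
          have := j.2
          omega
        have hd1 : ∀ k, k ≤ a → (p ^ k ∣ c - j.val ↔ p ^ k ∣ j.val) := by
          intro k hk
          have hkc : p ^ k ∣ c := (pow_dvd_pow p hk).trans hc
          constructor
          · intro h3
            have h4 := Nat.dvd_sub hkc h3
            rwa [Nat.sub_sub_self hjc.le] at h4
          · intro h3
            exact Nat.dvd_sub hkc h3
        have hcj : c - j.val ≠ 0 := by omega
        have e1 : p ^ padicValNat p j.val ∣ c - j.val := (hd1 _ hlt.le).2 pow_padicValNat_dvd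
        have e2 : ¬ p ^ (padicValNat p j.val + 1) ∣ c - j.val := by
          rw [hd1 _ hlt]
          exact pow_succ_padicValNat_not_dvd h0.ne'
        apply le_antisymm
        · by_contra hcon
          push Not at hcon
          exact e2 ((padicValNat_dvd_iff_le hcj).2 hcon)
        · exact (padicValNat_dvd_iff_le hcj).1 e1
      rw [key _ ⟨m', hm⟩ (by have := j.2; omega), key _ dvd_rfl j.2]
  have h2 : padicValNat p (∏ j : Fin (p ^ a), (q ^ (finrank K W - j.val) - 1)) =
      padicValNat p (∏ j : Fin (p ^ a), (q ^ (p ^ a - j.val) - 1)) := by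
    rw [val_prod _ _ (fun j _ => hne2 j), val_prod _ _ (fun j _ => hne1 j)]
    exact Finset.sum_congr rfl fun j _ => hval j
  intro hd
  have hN : Nat.card {U : Submodule K W // finrank K U = p ^ a} ≠ 0 := by
    intro h0
    rw [h0, zero_mul] at h1
    exact Finset.prod_ne_zero_iff.2 (fun j _ => hne2 j) h1.symm
  have h3 := congrArg (padicValNat p) h1
  rw [padicValNat.mul hN (Finset.prod_ne_zero_iff.2 fun j _ => hne1 j), h2] at h3
  have h4 := one_le_padicValNat_of_dvd hN hd
  omega

/-! ### Modules -/

/-- **Lemma M.** An irreducible module of a `p`-group over a finite field `K` with `p ∣ |K| - 1`. -/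
theorem finrank_eq_pow {p : ℕ} [hp : Fact p.Prime] (hp2 : p ≠ 2) {K : Type*} [Field K] [Fintype K] {W : Type*}
    [AddCommGroup W] [Module K W] [FiniteDimensional K W] [Nontrivial W] (hpK : p ∣ Fintype.card K - 1)
    {P : Type*} [Group P] [Finite P] (hP : IsPGroup p P) (ρ : P →* (W ≃ₗ[K] W))
    (irr : ∀ U : Submodule K W, (∀ g : P, ∀ u ∈ U, ρ g u ∈ U) → U = ⊥ ∨ U = ⊤) :
    ∃ a : ℕ, finrank K W = p ^ a := by
  classical
  have hp' := hp.out
  have hWf : Finite W := Module.finite_of_finite K
  have hW0 : finrank K W ≠ 0 := (Module.finrank_pos (R := K) (M := W)).ne'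
  obtain ⟨a, m', hm', hm⟩ := Nat.exists_eq_pow_mul_and_not_dvd hW0 p hp'.ne_one
  have h1 := not_dvd_card hp2 (W := W) hpK hm hm'
  let X := {U : Submodule K W // finrank K U = p ^ a}
  let act : MulAction P X :=
    { smul := fun g U => ⟨U.1.map (ρ g).toLinearMap, by
        rw [LinearEquiv.finrank_map_eq]; exact U.2⟩
      one_smul := fun U => Subtype.ext (by
        change U.1.map (ρ 1).toLinearMap = U.1
        rw [map_one]
        exact Submodule.map_id _)
      mul_smul := fun g h U => Subtype.ext (by
        change U.1.map (ρ (g * h)).toLinearMap = (U.1.map (ρ h).toLinearMap).map (ρ g).toLinearMap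
        rw [map_mul, ← Submodule.map_comp]
        rfl) }
  have hX : Finite X := inferInstance
  obtain ⟨U, hU⟩ := hP.nonempty_fixed_point_of_prime_not_dvd_card X h1
  have hinv : ∀ g : P, ∀ u ∈ U.1, ρ g u ∈ U.1 := by
    intro g u hu
    have h2 : g • U = U := hU g
    have h3 : U.1.map (ρ g).toLinearMap = U.1 := congrArg Subtype.val h2
    rw [← h3]
    exact ⟨u, hu, rfl⟩
  refine ⟨a, ?_⟩
  rcases irr U.1 hinv with h2 | h2
  · exfalso
    have h3 := U.2
    rw [h2, finrank_bot] at h3
    exact (pow_ne_zero a hp'.ne_zero) h3.symm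
  · have h3 := U.2
    rwa [h2, finrank_top] at h3

section EndAlg

variable {F : Type u} [Field F] {W : Type v} [AddCommGroup W] [Module F W] {P : Type w} [Group P]

/-- irreducible -/
def Irr (ρ : P →* (W ≃ₗ[F] W)) : Prop :=
  ∀ U : Submodule F W, (∀ g : P, ∀ u ∈ U, ρ g u ∈ U) → U = ⊥ ∨ U = ⊤

/-- `f` commutes with `P` -/
def Com (ρ : P →* (W ≃ₗ[F] W)) (f : Module.End F W) : Prop := ∀ (g : P) (w : W), f (ρ g w) = ρ g (f w)

/-- the algebra of the endomorphisms commuting with `P` -/
def EA (ρ : P →* (W ≃ₗ[F] W)) : Subalgebra F (Module.End F W) where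
  carrier := {f | Com ρ f}
  mul_mem' := by
    intro a b ha hb g w
    change a (b (ρ g w)) = ρ g (a (b w))
    rw [hb, ha]
  one_mem' := fun g w => rfl
  add_mem' := by
    intro a b ha hb g w
    rw [LinearMap.add_apply, LinearMap.add_apply, ha, hb, map_add]
  zero_mem' := fun g w => by simp
  algebraMap_mem' := by
    intro r g w
    rw [Module.algebraMap_end_apply, Module.algebraMap_end_apply, map_smul]

theorem mem_EA {ρ : P →* (W ≃ₗ[F] W)} {f : Module.End F W} : f ∈ EA ρ ↔ Com ρ f := Iff.rfl

theorem injective_of_irr {ρ : P →* (W ≃ₗ[F] W)} (hirr : Irr ρ) {f : Module.End F W} (hf : Com ρ f) (h0 : f ≠ 0) :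
    Function.Injective f := by
  rw [← LinearMap.ker_eq_bot]
  rcases hirr (LinearMap.ker f) (fun g u hu => by
    rw [LinearMap.mem_ker] at hu ⊢
    rw [hf, hu, map_zero]) with h | h
  · exact h
  · exact absurd (LinearMap.ker_eq_top.1 h) h0

/-- Schur and Wedderburn -/
theorem isField_EA [Finite W] [Nontrivial W] {ρ : P →* (W ≃ₗ[F] W)} (hirr : Irr ρ) : IsField (EA ρ) := by
  have hfinE : Finite (Module.End F W) := Finite.of_injective (fun f => (f : W → W)) DFunLike.coe_injective
  have hfin : Finite (EA ρ) := inferInstance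
  have hnt : Nontrivial (EA ρ) := by
    refine ⟨0, 1, fun h => ?_⟩
    obtain ⟨w, hw⟩ := exists_ne (0 : W)
    apply hw
    have h1 := congrArg (fun f : EA ρ => (f : Module.End F W) w) h
    exact h1.symm
  have hz : NoZeroDivisors (EA ρ) := by
    refine ⟨fun {a b} hab => ?_⟩
    by_cases ha : a = 0
    · exact Or.inl ha
    · right
      have ha' : (a : Module.End F W) ≠ 0 := fun h => ha (Subtype.ext h)
      have h1 := injective_of_irr hirr a.2 ha'
      apply Subtype.ext
      ext w
      apply h1
      have h2 := congrArg (fun f : EA ρ => (f : Module.End F W) w) hab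
      exact h2.trans (map_zero (a : Module.End F W)).symm
  have hd : IsDomain (EA ρ) := NoZeroDivisors.to_isDomain _
  exact Finite.isDomain_to_isField (EA ρ)

/-- the endomorphisms commuting with `P` commute -/
theorem end_comm [Finite W] [Nontrivial W] {ρ : P →* (W ≃ₗ[F] W)} (hirr : Irr ρ) {f g : Module.End F W}
    (hf : Com ρ f) (hg : Com ρ g) : f * g = g * f := by
  have h := (isField_EA hirr).mul_comm ⟨f, hf⟩ ⟨g, hg⟩
  exact congrArg Subtype.val h

/-- the field of the endomorphisms commuting with `P` -/
theorem exists_field [Finite W] [Nontrivial W] {ρ : P →* (W ≃ₗ[F] W)} (hirr : Irr ρ) :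
    ∃ (K : Type v) (_ : Field K) (_ : Finite K) (_ : Algebra F K) (_ : Module K W) (_ : IsScalarTower F K W),
      (∀ (k : K) (g : P) (w : W), k • ρ g w = ρ g (k • w)) ∧
      (∀ f : Module.End F W, Com ρ f → ∃ k : K, ∀ w, f w = k • w) := by
  have hfinE : Finite (Module.End F W) := Finite.of_injective (fun f => (f : W → W)) DFunLike.coe_injective
  have hfin : Finite (EA ρ) := inferInstance
  have hF := isField_EA hirr
  let iF : Field (EA ρ) := hF.toField
  let iA : Algebra F (EA ρ) := (algebraMap F (EA ρ)).toAlgebra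
  let iM : Module (EA ρ) W := Module.compHom W (EA ρ).val.toRingHom
  refine ⟨EA ρ, iF, hfin, iA, iM, ?_, ?_, ?_⟩
  · refine ⟨fun a k w => ?_⟩
    rfl
  · intro k g w
    exact k.2 g w
  · intro f hf
    exact ⟨⟨f, hf⟩, fun w => rfl⟩

/-- **Lemma A.** The determinants of the endomorphisms commuting with an irreducible `p`-group. -/
theorem exists_end {p : ℕ} [hp : Fact p.Prime] (hp2 : p ≠ 2) [Finite F] [Finite W] [Nontrivial W] [Finite P]
    (hP : IsPGroup p P) {ρ : P →* (W ≃ₗ[F] W)} (hirr : Irr ρ) (δ : F) :
    ∃ (a : ℕ) (y : Module.End F W), Com ρ y ∧ LinearMap.det y = δ ^ (p ^ a) := by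
  classical
  have hp' := hp.out
  have hFD : FiniteDimensional F W := Module.Finite.of_finite
  by_cases htriv : ∀ g : P, ρ g = 1
  · -- trivial action
    have h1 : finrank F W = 1 := by
      obtain ⟨w, hw⟩ := exists_ne (0 : W)
      rcases hirr (Submodule.span F {w}) (fun g u hu => by rw [htriv g]; exact hu) with h | h
      · exact absurd ((Submodule.span_singleton_eq_bot).1 h) hw
      · rw [← finrank_top F W, ← h]
        exact finrank_span_singleton hw
    refine ⟨0, δ • 1, fun g w => ?_, ?_⟩
    · rw [htriv g]; rfl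
    · rw [LinearMap.det_smul, h1, map_one, mul_one, pow_zero]
  · push Not at htriv
    obtain ⟨g0, hg0⟩ := htriv
    -- a central element
    let R := ρ.range
    have hRf : Finite R := Finite.of_surjective ρ.rangeRestrict ρ.rangeRestrict_surjective
    have hRp : IsPGroup p R := hP.of_surjective ρ.rangeRestrict ρ.rangeRestrict_surjective
    have hRn : Nontrivial R := ⟨⟨ρ g0, g0, rfl⟩, 1, fun h => hg0 (congrArg Subtype.val h)⟩
    have hc := hRp.center_nontrivial
    obtain ⟨z, hz⟩ := exists_ne (1 : Subgroup.center R)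
    obtain ⟨K, iK, hKf, iA, iM, iST, hK1, hK2⟩ := exists_field hirr
    have hzc : Com ρ (((z : R) : W ≃ₗ[F] W) : W →ₗ[F] W) := by
      intro g w
      have h1 := Subgroup.mem_center_iff.1 z.2 ⟨ρ g, g, rfl⟩
      have h2 := congrArg (fun r : R => (r : W ≃ₗ[F] W) w) h1
      exact h2.symm
    obtain ⟨k, hk⟩ := hK2 _ hzc
    have hk1 : k ≠ 1 := by
      rintro rfl
      apply hz
      apply Subtype.ext
      apply Subtype.ext
      ext w
      exact (hk w).trans (one_smul K w)
    obtain ⟨j, hj⟩ := hRp (z : R)
    have hkj : k ^ (p ^ j) = 1 := by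
      have h1 : ∀ (i : ℕ) (w : W), (((z : R) : W ≃ₗ[F] W) ^ i) w = k ^ i • w := by
        intro i
        induction i with
        | zero => intro w; rw [pow_zero, pow_zero, one_smul]; rfl
        | succ i ih =>
          intro w
          rw [pow_succ, pow_succ, mul_smul]
          change (((z : R) : W ≃ₗ[F] W) ^ i) (((z : R) : W ≃ₗ[F] W) w) = _
          rw [ih]
          exact congrArg (fun t => k ^ i • t) (hk w)
      obtain ⟨w, hw⟩ := exists_ne (0 : W)
      have h2 := h1 (p ^ j) w
      have h3 : ((z : R) : W ≃ₗ[F] W) ^ (p ^ j) = 1 := by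
        have := congrArg Subtype.val hj
        simpa using this
      rw [h3] at h2
      have h4 : (k ^ (p ^ j) - 1) • w = 0 := by
        rw [sub_smul, one_smul, ← h2]
        exact sub_self _
      rcases smul_eq_zero.1 h4 with h5 | h5
      · exact sub_eq_zero.1 h5
      · exact absurd h5 hw
    let iKf : Fintype K := Fintype.ofFinite K
    have hpK : p ∣ Fintype.card K - 1 := by
      have hk0 : k ≠ 0 := by
        rintro rfl
        rw [zero_pow (pow_ne_zero _ hp'.ne_zero)] at hkj
        exact zero_ne_one hkj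
      let κ : Kˣ := Units.mk0 k hk0
      have hκ : κ ^ (p ^ j) = 1 := Units.ext (by simpa [κ] using hkj)
      have hκ1 : κ ≠ 1 := fun h => hk1 (congrArg Units.val h)
      obtain ⟨i, -, hi⟩ := (Nat.dvd_prime_pow hp').1 (orderOf_dvd_of_pow_eq_one hκ)
      have hi0 : i ≠ 0 := by
        rintro rfl
        rw [pow_zero, orderOf_eq_one_iff] at hi
        exact hκ1 hi
      have h1 : p ∣ orderOf κ := by rw [hi]; exact dvd_pow_self p hi0
      have h2 := orderOf_dvd_card (x := κ)
      rw [Fintype.card_units] at h2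
      exact h1.trans h2
    have hFDK : FiniteDimensional K W := Module.Finite.of_finite
    let ρK : P →* (W ≃ₗ[K] W) :=
      { toFun := fun g => { (ρ g).toAddEquiv with map_smul' := fun k w => (hK1 k g w).symm }
        map_one' := by
          ext w
          change ρ 1 w = w
          rw [map_one]; rfl
        map_mul' := by
          intro g h
          ext w
          change ρ (g * h) w = ρ g (ρ h w)
          rw [map_mul]; rfl }
    obtain ⟨a, ha⟩ := finrank_eq_pow hp2 (W := W) hpK hP ρK (by
      intro U hU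
      rcases hirr (U.restrictScalars F) (fun g u hu => hU g u hu) with h | h
      · exact Or.inl ((Submodule.restrictScalars_eq_bot_iff _ _ _).1 h)
      · exact Or.inr ((Submodule.restrictScalars_eq_top_iff _ _ _).1 h))
    obtain ⟨l, hl⟩ := FiniteField.norm_surjective F K δ
    refine ⟨a, (algebraMap K (Module.End K W) l).restrictScalars F, ?_, ?_⟩
    · intro g w
      exact hK1 l g w
    · rw [LinearMap.det_restrictScalars]
      have h1 : LinearMap.det (algebraMap K (Module.End K W) l) = l ^ (p ^ a) := by
        rw [Algebra.algebraMap_eq_smul_one, LinearMap.det_smul, map_one, mul_one, ha]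
      rw [h1, map_pow, hl]

end EndAlg

end Cfsg.Agent.H107.AutU
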