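import Mathlib
import Cfsg.Agent.H107.AutU.Irr

/-!
# Invariant subspaces, Maschke, and endomorphisms which are `1` on a complement (S4822, helper107)
-/

set_option autoImplicit false

namespace Cfsg.Agent.H107.AutU

open Module

universe u v w

variable {F : Type u} [Field F] {V : Type v} [AddCommGroup V] [Module F V] {P : Type w} [Group P]

/-- invariant subspaces -/
def Inv (τ : P →* (V ≃ₗ[F] V)) (U : Submodule F V) : Prop := ∀ g : P, ∀ u ∈ U, τ g u ∈ U

/-- minimal invariant subspaces -/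
def Mini (τ : P →* (V ≃ₗ[F] V)) (W : Submodule F V) : Prop :=
  Inv τ W ∧ W ≠ ⊥ ∧ ∀ U ≤ W, Inv τ U → U = ⊥ ∨ U = W

variable {τ : P →* (V ≃ₗ[F] V)}

theorem inv_bot : Inv τ ⊥ := by
  intro g u hu
  rw [Submodule.mem_bot] at hu ⊢
  rw [hu, map_zero]

theorem inv_top : Inv τ ⊤ := fun _ _ _ => trivial

theorem Inv.inf {U U' : Submodule F V} (h : Inv τ U) (h' : Inv τ U') : Inv τ (U ⊓ U') :=
  fun g u hu => ⟨h g u hu.1, h' g u hu.2⟩

theorem apply_inv_apply (g : P) (v : V) : τ g (τ g⁻¹ v) = v := by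
  rw [← LinearEquiv.mul_apply, ← map_mul, mul_inv_cancel, map_one]
  rfl

theorem inv_apply_apply (g : P) (v : V) : τ g⁻¹ (τ g v) = v := by
  rw [← LinearEquiv.mul_apply, ← map_mul, inv_mul_cancel, map_one]
  rfl

theorem exists_mini [Finite V] {N : Submodule F V} (hN : Inv τ N) (h0 : N ≠ ⊥) : ∃ W ≤ N, Mini τ W := by
  have hf : Finite (Submodule F V) := Finite.of_injective (fun U : Submodule F V => (U : Set V)) SetLike.coe_injective
  obtain ⟨W, hWN, hW⟩ := (Set.toFinite {U : Submodule F V | Inv τ U ∧ U ≠ ⊥}).exists_le_minimal ⟨hN, h0⟩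
  refine ⟨W, hWN, hW.prop.1, hW.prop.2, fun U hU hU' => ?_⟩
  by_cases h : U = ⊥
  · exact Or.inl h
  · exact Or.inr (le_antisymm hU (hW.le_of_le ⟨hU', h⟩ hU))

/-- the restriction -/
def res (τ : P →* (V ≃ₗ[F] V)) (W : Submodule F V) (h : Inv τ W) : P →* (W ≃ₗ[F] W) where
  toFun g :=
    { toFun := fun w => ⟨τ g w, h g w w.2⟩
      invFun := fun w => ⟨τ g⁻¹ w, h g⁻¹ w w.2⟩
      left_inv := fun w => Subtype.ext (inv_apply_apply g (w : V))
      right_inv := fun w => Subtype.ext (apply_inv_apply g (w : V))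
      map_add' := fun a b => Subtype.ext (map_add (τ g) (a : V) b)
      map_smul' := fun c a => Subtype.ext (map_smul (τ g) c (a : V)) }
  map_one' := by
    ext w
    change τ 1 (w : V) = w
    rw [map_one]; rfl
  map_mul' g g' := by
    ext w
    change τ (g * g') (w : V) = τ g (τ g' w)
    rw [map_mul]; rfl

theorem res_apply {W : Submodule F V} (h : Inv τ W) (g : P) (w : W) : ((res τ W h g w : W) : V) = τ g w := rfl

theorem irr_res {W : Submodule F V} (h : Mini τ W) : Irr (res τ W h.1) := by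
  intro U hU
  have h1 : Inv τ (U.map W.subtype) := by
    rintro g _ ⟨u, hu, rfl⟩
    exact ⟨res τ W h.1 g u, hU g u hu, rfl⟩
  rcases h.2.2 _ (Submodule.map_subtype_le W U) h1 with h2 | h2
  · left
    exact Submodule.map_injective_of_injective W.injective_subtype (h2.trans (Submodule.map_bot _).symm)
  · right
    rw [eq_top_iff]
    rintro ⟨w, hw⟩ -
    have h3 : w ∈ U.map W.subtype := by rw [h2]; exact hw
    obtain ⟨u, hu, hu'⟩ := h3
    have : u = ⟨w, hw⟩ := Subtype.ext hu'
    rw [← this]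
    exact hu

/-- Maschke -/
theorem maschke [Finite P] (hP : (Nat.card P : F) ≠ 0) {N : Submodule F V} (hN : Inv τ N) :
    ∃ C, Inv τ C ∧ IsCompl N C := by
  classical
  let _ := Fintype.ofFinite P
  obtain ⟨C0, hC0⟩ := N.exists_isCompl
  let π : V →ₗ[F] N := N.projectionOnto C0 hC0
  let A : V →ₗ[F] N := (Nat.card P : F)⁻¹ • ∑ g : P, ((res τ N hN g).toLinearMap ∘ₗ π ∘ₗ (τ g⁻¹).toLinearMap)
  have hA1 : ∀ v, A v = (Nat.card P : F)⁻¹ • ∑ g : P, res τ N hN g (π (τ g⁻¹ v)) := by
    intro v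
    simp [A, LinearMap.sum_apply]
  have hA2 : ∀ x : N, A x = x := by
    intro x
    rw [hA1]
    have h1 : ∀ g : P, res τ N hN g (π (τ g⁻¹ x)) = x := by
      intro g
      have h2 : π (τ g⁻¹ x) = ⟨τ g⁻¹ x, hN g⁻¹ x x.2⟩ := Submodule.projectionOnto_apply_of_mem_left hC0 _
      rw [h2]
      exact Subtype.ext (apply_inv_apply g (x : V))
    rw [Finset.sum_congr rfl fun g _ => h1 g, Finset.sum_const, Finset.card_univ, ← Nat.card_eq_fintype_card,
      ← Nat.cast_smul_eq_nsmul F, smul_smul, inv_mul_cancel₀ hP, one_smul]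
  have hA3 : ∀ (g : P) (v : V), A (τ g v) = res τ N hN g (A v) := by
    intro g v
    rw [hA1, hA1, map_smul, map_sum]
    congr 1
    refine Fintype.sum_equiv (Equiv.mulLeft g⁻¹) _ _ fun x => ?_
    rw [Equiv.coe_mulLeft, mul_inv_rev, inv_inv, map_mul, map_mul, LinearEquiv.mul_apply, LinearEquiv.mul_apply]
    refine Subtype.ext ?_
    rw [res_apply, res_apply, res_apply, apply_inv_apply]
    rfl
  refine ⟨LinearMap.ker A, ?_, LinearMap.isCompl_of_proj hA2⟩
  intro g u hu
  rw [LinearMap.mem_ker] at hu ⊢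
  rw [hA3, hu, map_zero]

/-! ### Extension by `1` on a complement -/

section ext

variable {W C : Submodule F V} (hc : IsCompl W C) (y : Module.End F W)

/-- `y` on `W`, `1` on `C` -/
noncomputable def extd : Module.End F V := LinearMap.id + W.subtype ∘ₗ (y - 1) ∘ₗ W.projectionOnto C hc

theorem extd_apply (v : V) : extd hc y v = v + ((y (W.projectionOnto C hc v) : W) - (W.projectionOnto C hc v : W) : V) :=
  rfl

theorem extd_left (w : W) : extd hc y w = y w := by
  rw [extd_apply, Submodule.projectionOnto_apply_left]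
  abel

theorem extd_right {c : V} (h : c ∈ C) : extd hc y c = c := by
  rw [extd_apply, Submodule.projectionOnto_apply_of_mem_right hc h, map_zero]
  simp

theorem extd_sub_mem (v : V) : extd hc y v - v ∈ W := by
  rw [extd_apply, add_sub_cancel_left]
  exact W.sub_mem (y _).2 (W.projectionOnto C hc v).2

include hc in
theorem eq_add (v : V) : ∃ w ∈ W, ∃ c ∈ C, v = w + c := by
  have h : v ∈ W ⊔ C := by rw [hc.sup_eq_top]; trivial
  obtain ⟨w, hw, c, hc', rfl⟩ := Submodule.mem_sup.1 h
  exact ⟨w, hw, c, hc', rfl⟩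

variable {y}

theorem extd_com (hW : Inv τ W) (hC : Inv τ C) (hy : Com (res τ W hW) y) : Com τ (extd hc y) := by
  intro g v
  obtain ⟨w, hw, c, hc', rfl⟩ := eq_add hc v
  rw [map_add, map_add, map_add, map_add, extd_right hc y hc', extd_right hc y (hC g c hc')]
  congr 1
  have h1 := hy g ⟨w, hw⟩
  have h2 := extd_left hc y ⟨τ g w, hW g w hw⟩
  have h3 := extd_left hc y ⟨w, hw⟩
  rw [h2, h3]
  exact congrArg Subtype.val h1

theorem det_extd [FiniteDimensional F V] : LinearMap.det (extd hc y) = LinearMap.det y := by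
  have he : W ≤ W.comap (extd hc y) := fun w hw => by
    rw [Submodule.mem_comap, extd_left hc y ⟨w, hw⟩]
    exact (y _).2
  rw [LinearMap.det_eq_det_mul_det W (extd hc y) he]
  have h1 : (extd hc y).restrict he = y := by
    ext w
    exact extd_left hc y w
  have h2 : W.mapQ W (extd hc y) he = LinearMap.id := by
    ext v
    rw [LinearMap.comp_apply, Submodule.mkQ_apply, Submodule.mapQ_apply, LinearMap.comp_apply, Submodule.mkQ_apply,
      LinearMap.id_apply, Submodule.Quotient.eq]
    exact extd_sub_mem hc y v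
  rw [h1, h2, LinearMap.det_id, mul_one]

end ext

end Cfsg.Agent.H107.AutU
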