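import Mathlib
import Cfsg.Agent.H107.AutU.Mod
import Cfsg.Agent.LieClassical.HermBasic

/-!
# Unitary endomorphisms centralizing a `p`-group, with given determinant (S4822, helper107)
-/

set_option autoImplicit false

namespace Cfsg.Agent.H107.AutU

open Module Cfsg Cfsg.Agent.LieClassical.HermBasic

universe u v w

variable {F : Type u} [Field F] [Fintype F] {q n : ℕ}

/-- Hilbert's theorem 90 -/
theorem exists_h90 (hF : Fintype.card F = q ^ 2) {δ : F} (hδ : δ * δ ^ q = 1) : ∃ d : F, d ≠ 0 ∧ δ * d ^ q = d := by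
  have key : ∀ x : F, δ * (x + δ * x ^ q) ^ q = x + δ * x ^ q := by
    intro x
    rw [add_pow_q hF, mul_pow, pow_q_pow_q hF, mul_add, ← mul_assoc, hδ, one_mul, add_comm]
  by_contra hcon
  push Not at hcon
  have h0 : ∀ x : F, x + δ * x ^ q = 0 := by
    intro x
    by_contra hx
    exact hcon _ hx (key x)
  have h1 : δ = -1 := by
    have := h0 1
    rw [one_pow, mul_one] at this
    exact eq_neg_of_add_eq_zero_right this
  obtain ⟨x, hx⟩ := exists_not_fixed hF
  apply hx
  have h2 := h0 x
  rw [h1, neg_one_mul, ← sub_eq_add_neg, sub_eq_zero] at h2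
  exact h2.symm

theorem herm_nondeg_right (hF : Fintype.card F = q ^ 2) {v : Fin n → F} (h : ∀ u, hermForm n F q u v = 0) : v = 0 :=
  herm_nondeg hF fun u => herm_eq_zero_swap hF (h u)

theorem eq_of_herm (hF : Fintype.card F = q ^ 2) {v v' : Fin n → F}
    (h : ∀ u, hermForm n F q u v = hermForm n F q u v') : v = v' := by
  rw [← sub_eq_zero]
  refine herm_nondeg_right hF fun u => ?_
  rw [herm_sub_right hF, h, sub_self]

/-- the orthogonal subspace -/
def orth (hF : Fintype.card F = q ^ 2) (U : Submodule F (Fin n → F)) : Submodule F (Fin n → F) where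
  carrier := {v | ∀ u ∈ U, hermForm n F q u v = 0}
  add_mem' := by
    intro a b ha hb u hu
    rw [herm_add_right hF, ha u hu, hb u hu, add_zero]
  zero_mem' := fun _ _ => herm_zero_right hF _
  smul_mem' := by
    intro c x hx u hu
    rw [herm_smul_right, hx u hu, mul_zero]

theorem mem_orth {hF : Fintype.card F = q ^ 2} {U : Submodule F (Fin n → F)} {v : Fin n → F} :
    v ∈ orth hF U ↔ ∀ u ∈ U, hermForm n F q u v = 0 := Iff.rfl

theorem le_orth_comm {hF : Fintype.card F = q ^ 2} {U U' : Submodule F (Fin n → F)} (h : U ≤ orth hF U') :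
    U' ≤ orth hF U := fun v hv _ hu => herm_eq_zero_swap hF (h hu v hv)

theorem finrank_orth_ge (hF : Fintype.card F = q ^ 2) (U : Submodule F (Fin n → F)) :
    n ≤ finrank F (orth hF U) + finrank F U := by
  classical
  let b := Module.finBasis F U
  let T : (Fin n → F) →ₗ[F] (Fin (finrank F U) → F) :=
    { toFun := fun v i => hermForm n F q v (b i)
      map_add' := fun x y => funext fun i => herm_add_left x y _
      map_smul' := fun c x => funext fun i => herm_smul_left c x _ }
  have h1 := T.finrank_range_add_finrank_ker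
  have h2 : finrank F (LinearMap.range T) ≤ finrank F U := by
    refine (Submodule.finrank_le _).trans ?_
    rw [Module.finrank_fin_fun]
  have h3 : LinearMap.ker T ≤ orth hF U := by
    intro v hv u hu
    rw [LinearMap.mem_ker] at hv
    have h4 : (u : Fin n → F) = ∑ i, (b.repr ⟨u, hu⟩ i) • ((b i : U) : Fin n → F) := by
      have h5 := congrArg Subtype.val (b.sum_repr ⟨u, hu⟩)
      refine h5.symm.trans ?_
      rw [Submodule.coe_sum]
      rfl
    apply herm_eq_zero_swap hF
    rw [h4, herm_sum_right hF]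
    refine Finset.sum_eq_zero fun i _ => ?_
    rw [herm_smul_right]
    have h6 : hermForm n F q v (b i) = 0 := congrFun hv i
    rw [h6, mul_zero]
  have h4 := Submodule.finrank_mono h3
  rw [Module.finrank_fin_fun] at h1
  omega

/-- adjoints -/
theorem exists_adj (hF : Fintype.card F = q ^ 2) (X : Module.End F (Fin n → F)) :
    ∃ X' : Module.End F (Fin n → F), (∀ u v, hermForm n F q (X u) v = hermForm n F q u (X' v)) ∧
      LinearMap.det X' = (LinearMap.det X) ^ q := by
  classical
  let M := LinearMap.toMatrix' X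
  let M' := (((conj hF : F ≃+* F) : F →+* F).mapMatrix M).transpose
  refine ⟨Matrix.toLin' M', ?_, ?_⟩
  · intro u v
    have h1 : X u = M.mulVec u := by
      rw [← Matrix.toLin'_apply, Matrix.toLin'_toMatrix']
    rw [h1, Matrix.toLin'_apply, herm_def, herm_def]
    have h2 : ∀ j, (M'.mulVec v j) ^ q = ∑ i, M i j * v i ^ q := by
      intro j
      rw [Matrix.mulVec, dotProduct, sum_pow_q hF]
      refine Finset.sum_congr rfl fun i _ => ?_
      have h3 : M' j i = (M i j) ^ q := rfl
      rw [h3, mul_pow, pow_q_pow_q hF]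
    have h4 : ∀ i, M.mulVec u i * v i ^ q = ∑ j, M i j * u j * v i ^ q := fun i => by
      rw [Matrix.mulVec, dotProduct, Finset.sum_mul]
    rw [Finset.sum_congr rfl fun i _ => h4 i, Finset.sum_comm]
    refine Finset.sum_congr rfl fun j _ => ?_
    rw [h2, Finset.mul_sum]
    refine Finset.sum_congr rfl fun i _ => ?_
    ring
  · rw [LinearMap.det_toLin', Matrix.det_transpose, ← RingHom.map_det, LinearMap.det_toMatrix']
    rfl

/-- the pair of subspaces -/
theorem exists_pair {p : ℕ} [hp : Fact p.Prime] (hF : Fintype.card F = q ^ 2) {P : Type w} [Group P] [Finite P]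
    (hP : IsPGroup p P) (hpF : (p : F) ≠ 0) {τ : P →* ((Fin n → F) ≃ₗ[F] (Fin n → F))}
    (hτ : ∀ (g : P) (u v : Fin n → F), hermForm n F q (τ g u) (τ g v) = hermForm n F q u v) (hn : n ≠ 0) :
    ∃ W W' : Submodule F (Fin n → F), Mini τ W ∧ Mini τ W' ∧ W ⊓ orth hF W' = ⊥ ∧ W' ⊓ orth hF W = ⊥ ∧
      (W' = W ∨ (W ≤ orth hF W ∧ W' ≤ orth hF W')) := by
  have hp' := hp.out
  have hPF : (Nat.card P : F) ≠ 0 := by
    obtain ⟨k, hk⟩ := IsPGroup.iff_card.1 hP
    rw [hk, Nat.cast_pow]
    exact pow_ne_zero _ hpF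
  have horth : ∀ U : Submodule F (Fin n → F), Inv τ U → Inv τ (orth hF U) := by
    intro U hU g v hv u hu
    have h1 := hv (τ g⁻¹ u) (hU g⁻¹ u hu)
    rw [← hτ g, apply_inv_apply] at h1
    exact h1
  by_cases hcase : ∃ W, Mini τ W ∧ W ⊓ orth hF W = ⊥
  · obtain ⟨W, hW, h1⟩ := hcase
    exact ⟨W, W, hW, hW, h1, h1, Or.inl rfl⟩
  · push Not at hcase
    have hiso : ∀ W, Mini τ W → W ≤ orth hF W := by
      intro W hW
      rcases hW.2.2 _ inf_le_left (hW.1.inf (horth W hW.1)) with h | h
      · exact absurd h (hcase W hW)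
      · exact inf_eq_left.1 h
    have htop : (⊤ : Submodule F (Fin n → F)) ≠ ⊥ := by
      intro h
      have h1 : finrank F (⊤ : Submodule F (Fin n → F)) = 0 := by rw [h, finrank_bot]
      rw [finrank_top, Module.finrank_fin_fun] at h1
      exact hn h1
    obtain ⟨W, -, hW⟩ := exists_mini (inv_top (τ := τ)) htop
    obtain ⟨N, hN1, hN2⟩ := maschke hPF (horth W hW.1)
    have hN0 : N ≠ ⊥ := by
      rintro rfl
      have h1 : orth hF W = ⊤ := by simpa using hN2.sup_eq_top
      apply hW.2.1
      rw [eq_bot_iff]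
      intro w hw
      rw [Submodule.mem_bot]
      exact herm_nondeg hF fun v => (h1 ▸ Submodule.mem_top : v ∈ orth hF W) w hw
    obtain ⟨W', hW'N, hW'⟩ := exists_mini hN1 hN0
    have h2 : W' ⊓ orth hF W = ⊥ := by
      rw [eq_bot_iff, ← hN2.symm.inf_eq_bot]
      exact inf_le_inf_right _ hW'N
    refine ⟨W, W', hW, hW', ?_, h2, Or.inr ⟨hiso W hW, hiso W' hW'⟩⟩
    rcases hW.2.2 _ inf_le_left (hW.1.inf (horth W' hW'.1)) with h | h
    · exact h
    · exfalso
      have h3 := le_orth_comm (inf_eq_left.1 h)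
      rw [inf_eq_left.2 h3] at h2
      exact hW'.2.1 h2

theorem isCompl_of_pair (hF : Fintype.card F = q ^ 2) {W W' : Submodule F (Fin n → F)} (h1 : W ⊓ orth hF W' = ⊥)
    (h2 : W' ⊓ orth hF W = ⊥) : IsCompl W (orth hF W') := by
  have hd1 : Disjoint W (orth hF W') := disjoint_iff.2 h1
  have hd2 : Disjoint W' (orth hF W) := disjoint_iff.2 h2
  have e1 := Submodule.finrank_add_finrank_le_of_disjoint hd1
  have e2 := Submodule.finrank_add_finrank_le_of_disjoint hd2
  have e3 := finrank_orth_ge hF W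
  have e4 := finrank_orth_ge hF W'
  rw [Module.finrank_fin_fun] at e1 e2
  refine (Submodule.isCompl_iff_disjoint _ _ ?_).2 hd1
  rw [Module.finrank_fin_fun]
  omega

/-- **Main geometric lemma.** A unitary endomorphism centralizing `P` of determinant `δ ^ (p ^ a)`. -/
theorem exists_unitary {p : ℕ} [hp : Fact p.Prime] (hp2 : p ≠ 2) (hF : Fintype.card F = q ^ 2) {P : Type w} [Group P]
    [Finite P] (hP : IsPGroup p P) (hpF : (p : F) ≠ 0) (τ : P →* ((Fin n → F) ≃ₗ[F] (Fin n → F)))
    (hτ : ∀ (g : P) (u v : Fin n → F), hermForm n F q (τ g u) (τ g v) = hermForm n F q u v) (hn : n ≠ 0) {δ : F}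
    (hδ : δ * δ ^ q = 1) :
    ∃ (a : ℕ) (c : Module.End F (Fin n → F)), (∀ u v, hermForm n F q (c u) (c v) = hermForm n F q u v) ∧ Com τ c ∧
      LinearMap.det c = δ ^ (p ^ a) := by
  classical
  obtain ⟨d, hd0, hd⟩ := exists_h90 hF hδ
  obtain ⟨W, W', hW, hW', h1, h2, h3⟩ := exists_pair hF hP hpF hτ hn
  have hc1 := isCompl_of_pair hF h1 h2
  have hc2 := isCompl_of_pair hF h2 h1
  have horth : ∀ U : Submodule F (Fin n → F), Inv τ U → Inv τ (orth hF U) := by
    intro U hU g v hv u hu
    have h1 := hv (τ g⁻¹ u) (hU g⁻¹ u hu)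
    rw [← hτ g, apply_inv_apply] at h1
    exact h1
  -- the double orthogonal
  have hoo : ∀ x, (∀ u ∈ orth hF W', hermForm n F q u x = 0) → x ∈ W' := by
    intro x hx
    obtain ⟨w', hw', u, hu, rfl⟩ := eq_add hc2 x
    have hu0 : u = 0 := by
      refine herm_nondeg_right hF fun v => ?_
      obtain ⟨w, hw, t, ht, rfl⟩ := eq_add hc1 v
      rw [herm_add_left, hu w hw, zero_add]
      have h4 := hx t ht
      rw [herm_add_right hF, herm_eq_zero_swap hF (ht w' hw'), zero_add] at h4
      exact h4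
    rw [hu0, add_zero]
    exact hw'
  have hWf : Finite W := inferInstance
  have hWn : Nontrivial W := Submodule.nontrivial_iff_ne_bot.2 hW.2.1
  obtain ⟨a, y, hy, hydet⟩ := exists_end hp2 hP (irr_res hW) d
  let X := extd hc1 y
  have hXcom : Com τ X := extd_com hc1 hW.1 (horth W' hW'.1) hy
  have hXdet : LinearMap.det X = d ^ (p ^ a) := (det_extd hc1).trans hydet
  obtain ⟨X', hX', hX'det⟩ := exists_adj hF X
  have hXX : ∀ u v, hermForm n F q (X' u) v = hermForm n F q u (X v) := by
    intro u v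
    rw [herm_swap hF v, ← hX', ← herm_swap hF]
  have hX'com : Com τ X' := by
    intro g v
    refine eq_of_herm hF fun u => ?_
    rw [← hX', ← apply_inv_apply (τ := τ) g (X u), hτ, ← hXcom, hX', ← hτ g, apply_inv_apply]
  -- `X'` is `1` on the orthogonal of `W`, and preserves `W'`
  have hX'1 : ∀ v ∈ orth hF W, X' v = v := by
    intro v hv
    refine eq_of_herm hF fun u => ?_
    rw [← hX', ← sub_eq_zero, ← herm_sub_left]
    exact hv _ (extd_sub_mem hc1 y u)
  have hX'2 : ∀ v ∈ W', X' v ∈ W' := by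
    intro v hv
    refine hoo _ fun u hu => ?_
    rw [← hX', extd_right hc1 y hu]
    exact herm_eq_zero_swap hF (hu v hv)
  have hcomm : X * X' = X' * X := by
    rcases h3 with h3 | ⟨h3, h4⟩
    · subst h3
      -- both preserve `W` and are `1` on its orthogonal
      have hXW : ∀ w ∈ W', X w ∈ W' := fun w hw => by
        rw [show X w = y ⟨w, hw⟩ from extd_left hc1 y ⟨w, hw⟩]
        exact (y _).2
      let y' : Module.End F W' := X'.restrict hX'2
      have hy' : Com (res τ W' hW.1) y' := fun g w => Subtype.ext (hX'com g w)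
      have hyy := end_comm (irr_res hW) hy hy'
      refine LinearMap.ext fun v => ?_
      obtain ⟨w, hw, t, ht, rfl⟩ := eq_add hc1 v
      rw [Module.End.mul_apply, Module.End.mul_apply, map_add, map_add, map_add, map_add, hX'1 t ht,
        show X t = t from extd_right hc1 y ht, hX'1 t ht]
      congr 1
      have h5 := congrArg (fun f : Module.End F W' => ((f ⟨w, hw⟩ : W') : Fin n → F)) hyy
      have h6 : X (X' w) = y (y' ⟨w, hw⟩) := extd_left hc1 y (y' ⟨w, hw⟩)
      have h7 : X w = y ⟨w, hw⟩ := extd_left hc1 y ⟨w, hw⟩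
      rw [h6, h7]
      exact h5
    · refine LinearMap.ext fun v => ?_
      obtain ⟨w', hw', t, ht, rfl⟩ := eq_add hc2 v
      rw [Module.End.mul_apply, Module.End.mul_apply, map_add, map_add, map_add, map_add]
      congr 1
      · have h5 : X w' = w' := extd_right hc1 y (h4 hw')
        have h6 : X (X' w') = X' w' := extd_right hc1 y (h4 (hX'2 w' hw'))
        rw [h5, h6]
      · rw [hX'1 t ht]
        have h5 : X t ∈ orth hF W := by
          have h6 := (orth hF W).add_mem (h3 (extd_sub_mem hc1 y t)) ht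
          rwa [sub_add_cancel] at h6
        exact (hX'1 _ h5).symm
  -- the inverse of `X'`
  have hu' : IsUnit X' := by
    rw [LinearMap.isUnit_iff_isUnit_det, hX'det, hXdet]
    exact (IsUnit.mk0 _ hd0).pow _ |>.pow _
  obtain ⟨⟨x', Y, e1, e2⟩, rfl⟩ := hu'
  simp only at hX' hXX hX'com hX'1 hX'2 hcomm hX'det
  have f1 : ∀ v, x' (Y v) = v := fun v => congrArg (fun f : Module.End F (Fin n → F) => f v) e1
  have f2 : ∀ v, Y (x' v) = v := fun v => congrArg (fun f : Module.End F (Fin n → F) => f v) e2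
  have f3 : ∀ v, X (x' v) = x' (X v) := fun v => congrArg (fun f : Module.End F (Fin n → F) => f v) hcomm
  refine ⟨a, X * Y, ?_, ?_, ?_⟩
  · intro u v
    rw [Module.End.mul_apply, Module.End.mul_apply, hX', ← f3, f1, ← hXX, f1]
  · intro g v
    rw [Module.End.mul_apply, Module.End.mul_apply, ← hXcom]
    congr 1
    rw [← f2 (τ g (Y v)), hX'com, f1]
  · have hYdet : (LinearMap.det x') * (LinearMap.det Y) = 1 := by
      rw [← map_mul, e1, map_one]
    rw [map_mul, hXdet]
    rw [hX'det, hXdet] at hYdet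
    have h8 : δ ^ (p ^ a) * (d ^ p ^ a) ^ q = d ^ p ^ a := by
      rw [← pow_mul, mul_comm (p ^ a) q, pow_mul, ← mul_pow, hd]
    calc d ^ p ^ a * LinearMap.det Y = δ ^ (p ^ a) * ((d ^ p ^ a) ^ q * LinearMap.det Y) := by
          rw [← mul_assoc, h8]
      _ = _ := by rw [hYdet, mul_one]

end Cfsg.Agent.H107.AutU
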