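import Mathlib
import Cfsg.Agent.H107.AutU.Geo
import Cfsg.Agent.H202.Psu
import Cfsg.Agent.H845.KB.AbTools
import Cfsg.Prelude.Def_LieTypeChar

/-!
# S4822 AO2: `AbOut` for the unitary groups (helper107)

`ab_psu` : for `p ≥ 5` prime to `q`, the automorphism groups `A ≥ Inn(S)` of `S = PSU_n(q)` of index prime to `p` are
commutative modulo `Inn(S)` and the automorphisms which centralize a Sylow `p`-subgroup.
-/

set_option autoImplicit false

namespace Cfsg.Agent.H107.AutU

open Cfsg Matrix Cfsg.Agent.LieClassical.HermBasic Cfsg.Agent.LieClassical.HermSiegel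
  Cfsg.Agent.ClassicalGeometry.PSUAutCount Cfsg.Agent.Schreier.PSU Cfsg.Agent.H508.KB
open Cfsg.Agent.ClassicalGeometry.UnitAutBasic (pr pr_surjective)

universe u

section

variable {F : Type*} [Field F] [Fintype F] {q n : ℕ}

/-- the determinant -/
def dt (n : ℕ) (F : Type*) [Field F] (q : ℕ) : GU n F q →* Fˣ :=
  (Matrix.GeneralLinearGroup.det).comp (GU n F q).subtype

omit [Fintype F] in
theorem coe_dt (B : GU n F q) : ((dt n F q B : Fˣ) : F) = (gm B).det := rfl

theorem dt_norm (hF : Fintype.card F = q ^ 2) (B : GU n F q) :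
    ((dt n F q B : Fˣ) : F) * ((dt n F q B : Fˣ) : F) ^ q = 1 := by
  rw [coe_dt, ← pow_succ']
  exact ClassicalGeometry.GUBasic.det_pow hF (A := gm B) (fun u v => herm_gm B u v)

omit [Fintype F] in
theorem dt_sc (c : {c : F // c * c ^ q = 1}) : ((dt n F q (sc n c) : Fˣ) : F) = c.1 ^ n := by
  have h1 : gm (sc n c) = c.1 • (1 : Matrix (Fin n) (Fin n) F) := by
    have := gm_sc_mul c (1 : GU n F q)
    rwa [mul_one, gm_one] at this
  rw [coe_dt, h1, Matrix.det_smul, Matrix.det_one, mul_one, Fintype.card_fin]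

omit [Fintype F] in
/-- the elements of determinant one -/
theorem exists_conj_of_dt (B : GU n F q) (h : dt n F q B = 1) : ∃ g : SU n F q, f₁ B = MulAut.conj (pr n F q g) := by
  have hdet : (gm B).det = 1 := by rw [← coe_dt, h]; rfl
  let g : SU n F q := mkSU (gm B) hdet (fun u v => herm_gm _ u v)
  exact ⟨g, f₁_eq_conj B g rfl⟩

omit [Fintype F] in
theorem f₁_sc_mul (c : {c : F // c * c ^ q = 1}) (A : GU n F q) : f₁ (sc n c * A) = (f₁ A : MulAut (PSU n F q)) :=
  toAut_sc_mul c A 1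

/-- the natural module -/
def natRep (Q : Subgroup (SU n F q)) : Q →* ((Fin n → F) ≃ₗ[F] (Fin n → F)) :=
  Matrix.SpecialLinearGroup.toLin'.comp ((SU n F q).subtype.comp Q.subtype)

omit [Fintype F] in
theorem natRep_apply (Q : Subgroup (SU n F q)) (g : Q) (v : Fin n → F) :
    natRep Q g v = mat (g : SU n F q) *ᵥ v := rfl

/-- an element of `GU` centralizing `Q`, of determinant `δ ^ (p ^ a)` -/
theorem exists_cent {p : ℕ} [Fact p.Prime] (hp2 : p ≠ 2) (hF : Fintype.card F = q ^ 2) (hn : n ≠ 0) (hpF : (p : F) ≠ 0)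
    {Q : Subgroup (SU n F q)} (hQ : IsPGroup p Q) {δ : Fˣ} (hδ : (δ : F) * (δ : F) ^ q = 1) :
    ∃ (a : ℕ) (C : GU n F q), (∀ g ∈ Q, gm C * mat g = mat g * gm C) ∧ dt n F q C = δ ^ (p ^ a) := by
  classical
  have hfin : Finite Q := by
    have : Finite (SU n F q) := Finite.of_injective (mat : SU n F q → _) mat_injective
    infer_instance
  obtain ⟨a, c, hc1, hc2, hc3⟩ := exists_unitary hp2 hF hQ hpF (natRep Q) (fun g u v => g.1.2 u v) hn hδ
  have h1 : ∀ v, (LinearMap.toMatrix' c) *ᵥ v = c v := fun v => by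
    rw [← Matrix.toLin'_apply, Matrix.toLin'_toMatrix']
  obtain ⟨C0, hC0, hC⟩ := ClassicalGeometry.HermOrtho.exists_GU_of_isometry hF (M := LinearMap.toMatrix' c)
    (fun u v => by rw [h1, h1, hc1])
  have h2 : gm (⟨C0, hC0⟩ : GU n F q) = LinearMap.toMatrix' c := hC
  refine ⟨a, ⟨C0, hC0⟩, ?_, ?_⟩
  · intro g hg
    apply Matrix.ext_of_mulVec_single
    intro i
    rw [h2, ← mulVec_mulVec, ← mulVec_mulVec, h1, h1]
    exact hc2 ⟨g, hg⟩ _
  · apply Units.ext
    rw [coe_dt, h2, LinearMap.det_toMatrix', hc3, Units.val_pow_eq_pow_val]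

omit [Fintype F] in
/-- elements commuting with `Q` fix its image in `PSU` -/
theorem f₁_fix {C : GU n F q} {g : SU n F q} (h : gm C * mat g = mat g * gm C) :
    (f₁ C : MulAut (PSU n F q)) (pr n F q g) = pr n F q g := by
  change toAut C 1 (pr n F q g) = _
  rw [Schreier.PSU.toAut_pr']
  congr 1
  apply mat_injective
  rw [H202.Psu.mat_semiConj_one, h, Matrix.mul_assoc, gm_mul_inv, Matrix.mul_one]

end

/-- `AbOut` for `PSU_n(q)` -/
theorem abOut_psu {p : ℕ} [hp : Fact p.Prime] (hp2 : p ≠ 2) {F : Type*} [Field F] [Fintype F] {q n : ℕ}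
    (hF : Fintype.card F = q ^ 2) (hn : 3 ≤ n) (h32 : ¬ (n = 3 ∧ q = 2)) (hpF : (p : F) ≠ 0) :
    AbOut p (PSU n F q) := by
  classical
  have hfin : Finite (SU n F q) := Finite.of_injective (mat : SU n F q → _) mat_injective
  have hN : ((f₁ (F := F) (q := q) (n := n)).range).Normal := by
    have := H202.Psu.inndiag_normal hF hn h32
    rwa [H202.Psu.inndiag_eq] at this
  refine H845.KB.abOut_of (f₁ (F := F) (q := q) (n := n)).range ?_ ?_
  · intro α β
    obtain ⟨A, ρ, rfl⟩ := ClassicalGeometry.PSUAutMain.exists_toAut hF hn h32 α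
    obtain ⟨B, σ, rfl⟩ := ClassicalGeometry.PSUAutMain.exists_toAut hF hn h32 β
    rw [← QuotientGroup.eq_one_iff, QuotientGroup.mk_mul, QuotientGroup.mk_mul, QuotientGroup.mk_mul,
      QuotientGroup.mk_inv, QuotientGroup.mk_inv, toAut_eq, toAut_eq, QuotientGroup.mk_mul, QuotientGroup.mk_mul]
    have h1 : ∀ A : GU n F q, ((f₁ A : MulAut (PSU n F q)) : MulAut (PSU n F q) ⧸ f₁.range) = 1 := fun A =>
      (QuotientGroup.eq_one_iff _).2 ⟨A, rfl⟩
    rw [h1, h1, one_mul, one_mul, ← QuotientGroup.mk_mul, ← map_mul, H202.Psu.f₂_comm ρ σ, map_mul,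
      QuotientGroup.mk_mul]
    group
  · rintro P _ ⟨B, rfl⟩ m hm ⟨x, hx⟩
    obtain ⟨g, rfl⟩ := pr_surjective x
    obtain ⟨Q, hQ, hQP⟩ := H845.KB.exists_lift_sylow (pr n F q) pr_surjective P
    -- `B ^ m = c g`
    obtain ⟨G0, hG0, hG⟩ := ClassicalGeometry.HermOrtho.exists_GU_of_isometry hF (M := mat g)
      (fun u v => herm_act g u v)
    let G : GU n F q := ⟨G0, hG0⟩
    have hGm : gm G = mat g := hG
    have h1 : toAut G 1 = toAut (B ^ m) 1 := by
      have e1 := f₁_eq_conj G g hGm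
      have e2 : (f₁ (B ^ m) : MulAut (PSU n F q)) = MulAut.conj (pr n F q g) := by rw [map_pow]; exact hx.symm
      exact e1.trans e2.symm
    obtain ⟨-, c, hc, hcm⟩ := eq_of_toAut_eq hF hn h1
    have hc0 : c ≠ 0 := by
      rintro rfl
      rw [zero_mul] at hc
      exact zero_ne_one hc
    have h2 : (dt n F q B) ^ m = (Units.mk0 c hc0) ^ n := by
      rw [← map_pow]
      apply Units.ext
      rw [coe_dt, hcm, hGm, Matrix.det_smul, Fintype.card_fin, Units.val_pow_eq_pow_val, Units.val_mk0]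
      have h3 : (mat g).det = 1 := (g : SpecialLinearGroup (Fin n) F).det_coe
      rw [h3, mul_one]
    obtain ⟨a, C, hC1, hC2⟩ := exists_cent hp2 hF (by omega) hpF hQ (dt_norm hF B)
    -- Bezout
    have hcop : IsCoprime ((p ^ a : ℕ) : ℤ) (m : ℤ) := by
      rw [Nat.isCoprime_iff_coprime]
      exact Nat.Coprime.pow_left _ ((Nat.Prime.coprime_iff_not_dvd hp.out).2 hm)
    obtain ⟨u, v, huv⟩ := hcop
    have hcv : c ^ v * (c ^ v) ^ q = 1 := by
      rw [← zpow_natCast (c ^ v), ← _root_.zpow_mul, mul_comm v, _root_.zpow_mul, ← mul_zpow, zpow_natCast, hc, _root_.one_zpow]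
    let D : GU n F q := sc n ⟨c ^ v, hcv⟩ * C ^ u
    have hD : dt n F q D = dt n F q B := by
      have e1 : dt n F q (sc n ⟨c ^ v, hcv⟩) = (Units.mk0 c hc0 ^ v) ^ n := by
        apply Units.ext
        rw [dt_sc, Units.val_pow_eq_pow_val, Units.val_zpow_eq_zpow_val, Units.val_mk0]
      have e2 : (Units.mk0 c hc0 ^ v) ^ n = dt n F q B ^ (v * (m : ℤ)) := by
        rw [← zpow_natCast, ← _root_.zpow_mul, mul_comm v (n : ℤ), _root_.zpow_mul, zpow_natCast, ← h2, ← zpow_natCast, ← _root_.zpow_mul,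
          mul_comm]
      rw [map_mul, map_zpow, hC2, e1, e2, ← zpow_natCast, ← _root_.zpow_mul, ← _root_.zpow_add, mul_comm ((p ^ a : ℕ) : ℤ) u,
        add_comm, huv, zpow_one]
    obtain ⟨s, hs⟩ := exists_conj_of_dt (B * D⁻¹) (by rw [map_mul, map_inv, hD, mul_inv_cancel])
    refine ⟨pr n F q s, fun x hx => ?_⟩
    obtain ⟨t, ht, rfl⟩ := hQP x hx
    have h3 : (f₁ D : MulAut (PSU n F q)) (pr n F q t) = pr n F q t := by
      have e1 : (f₁ D : MulAut (PSU n F q)) = (f₁ C) ^ u := by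
        rw [f₁_sc_mul, map_zpow]
      have e2 : (f₁ C : MulAut (PSU n F q)) ∈ MulAction.stabilizer (MulAut (PSU n F q)) (pr n F q t) := f₁_fix (hC1 t ht)
      rw [e1]
      exact Subgroup.zpow_mem _ e2 u
    have h4 : (f₁ B : MulAut (PSU n F q)) = MulAut.conj (pr n F q s) * f₁ D := by
      rw [← hs, ← map_mul, inv_mul_cancel_right]
    rw [h4, MulAut.mul_apply, h3, MulAut.conj_apply]

variable {p : ℕ} [hp : Fact p.Prime]

/-- **AO2** -/
theorem ab_psu {S : Type u} [Group S] {r : ℕ} [hr : Fact r.Prime] (hrp : r ≠ p) (h5 : 5 ≤ p) (h : IsPSUChar r S) :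
    AbOut p S := by
  obtain ⟨F, iF, iF', iC, n, q, hF, hn, h32, ⟨e⟩⟩ := h
  have hfin : Finite (SU n F q) := Finite.of_injective (mat : SU n F q → _) mat_injective
  have hfin' : Finite (PSU n F q) := Finite.of_surjective (pr n F q) pr_surjective
  have hfinS : Finite S := Finite.of_equiv _ e.symm.toEquiv
  refine H845.KB.abOut_congr e (abOut_psu (by omega) hF hn h32 ?_)
  intro h0
  rw [CharP.cast_eq_zero_iff F r p] at h0
  exact hrp ((Nat.prime_dvd_prime_iff_eq hr.out hp.out).1 h0)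

end Cfsg.Agent.H107.AutU
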